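import Mathlib
import Groth.Agent.Lib.Helper9.AssTensor

/-!
# Reducedness of a flat algebra over a normal domain from reducedness of fibres in codimension one
(helper14)
-/

set_option autoImplicit false
universe u

namespace Groth.Agent.Lib.Helper14.RedFib

open TensorProduct

/-- If `t` is a nonzerodivisor in the Jacobson radical of a Noetherian ring `B` and the nilradical
is contained in `(t)`, then `B` is reduced. -/
theorem isReduced_of_nilradical_le_span (B : Type*) [CommRing B] [IsNoetherianRing B] (t : B)
    (ht : t ∈ Ideal.jacobson (⊥ : Ideal B)) (hreg : t ∈ nonZeroDivisors B)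
    (h : nilradical B ≤ Ideal.span {t}) : IsReduced B := by
  rw [← nilradical_eq_bot_iff]
  have hle : nilradical B ≤ Ideal.span {t} • nilradical B := by
    intro n hn
    obtain ⟨b, rfl⟩ := Ideal.mem_span_singleton'.mp (h hn)
    obtain ⟨k, hk⟩ := hn
    have hb : b ∈ nilradical B := by
      refine ⟨k, ?_⟩
      rw [mul_pow] at hk
      exact (mul_right_mem_nonZeroDivisors_eq_zero_iff (pow_mem hreg k)).mp hk
    rw [mul_comm]
    exact Submodule.smul_mem_smul (Ideal.mem_span_singleton_self t) hb
  exact Submodule.eq_bot_of_le_smul_of_le_jacobson_bot (Ideal.span {t}) (nilradical B)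
    (IsNoetherian.noetherian _) hle ((Ideal.span_singleton_le_iff_mem _).mpr ht)

/-- In a normal Noetherian domain, an associated prime `P` of a nonzero principal ideal `(x)` is
"locally principal": there are `t ∈ P` and `s ∉ P` with `s P ⊆ (t)`. -/
theorem exists_principal_of_mem_associatedPrimes (D : Type*) [CommRing D] [IsDomain D]
    [IsNoetherianRing D] [IsIntegrallyClosed D] (x : D) (hx : x ≠ 0) (P : Ideal D)
    (hP : P ∈ associatedPrimes D (D ⧸ Ideal.span {x})) :
    x ∈ P ∧ ∃ t ∈ P, t ≠ 0 ∧ ∃ s, s ∉ P ∧ ∀ a ∈ P, s * a ∈ Ideal.span {t} := by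
  obtain ⟨hprime, ybar, hPy⟩ := (isAssociatedPrime_iff).mp hP
  obtain ⟨y, rfl⟩ := Ideal.Quotient.mk_surjective ybar
  have hmem : ∀ a, a ∈ P ↔ x ∣ a * y := by
    intro a
    rw [hPy, Submodule.mem_colon_singleton, Submodule.mem_bot, ← Ideal.mem_span_singleton,
      ← Ideal.Quotient.eq_zero_iff_mem, map_mul]
    rfl
  have hxP : x ∈ P := (hmem x).mpr ⟨y, rfl⟩
  refine ⟨hxP, ?_⟩
  by_contra hcon
  push Not at hcon
  -- every quotient `d = a y / x` lies in `P`
  have hd : ∀ a ∈ P, ∀ d, a * y = x * d → d ∈ P := by
    intro a ha d hadx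
    by_contra hdP
    have ha0 : a ≠ 0 := by
      rintro rfl
      rw [zero_mul] at hadx
      have : d = 0 := by
        rcases mul_eq_zero.mp hadx.symm with h | h
        · exact absurd h hx
        · exact h
      exact hdP (this ▸ P.zero_mem)
    obtain ⟨a', ha', hna'⟩ := hcon a ha ha0 d hdP
    apply hna'
    obtain ⟨d', hd'⟩ := (hmem a').mp ha'
    rw [Ideal.mem_span_singleton]
    refine ⟨d', ?_⟩
    apply mul_left_cancel₀ hx
    calc x * (d * a') = (x * d) * a' := by ring
      _ = a * y * a' := by rw [hadx]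
      _ = a * (a' * y) := by ring
      _ = a * (x * d') := by rw [hd']
      _ = x * (a * d') := by ring
  let K := FractionRing D
  let z : K := algebraMap D K y / algebraMap D K x
  have hxK : algebraMap D K x ≠ 0 := by
    rw [Ne, map_eq_zero_iff _ (IsFractionRing.injective D K)]
    exact hx
  let N : Submodule D K := Submodule.map (Algebra.linearMap D K) P
  have hN0 : N ≠ ⊥ := by
    intro h0
    have : algebraMap D K x ∈ N := ⟨x, hxP, rfl⟩
    rw [h0, Submodule.mem_bot] at this
    exact hxK this
  have hNfg : N.FG := (IsNoetherian.noetherian P).map _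
  have hzN : ∀ n ∈ N, z • n ∈ N := by
    rintro n ⟨a, ha, rfl⟩
    obtain ⟨d, hd'⟩ := (hmem a).mp ha
    refine ⟨d, hd a ha d hd', ?_⟩
    show algebraMap D K d = z * algebraMap D K a
    have : algebraMap D K a * algebraMap D K y = algebraMap D K x * algebraMap D K d := by
      rw [← map_mul, ← map_mul, hd']
    show algebraMap D K d = algebraMap D K y / algebraMap D K x * algebraMap D K a
    rw [div_mul_eq_mul_div, eq_div_iff hxK, mul_comm, ← this, mul_comm]
  have hint : IsIntegral D z := isIntegral_of_smul_mem_submodule N hN0 hNfg z hzN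
  obtain ⟨w, hw⟩ := IsIntegrallyClosed.isIntegral_iff.mp hint
  have hyw : y = x * w := by
    apply IsFractionRing.injective D K
    rw [map_mul, hw]
    show algebraMap D K y = algebraMap D K x * (algebraMap D K y / algebraMap D K x)
    rw [mul_div_cancel₀ _ hxK]
  have h1 : (1 : D) ∈ P := (hmem 1).mpr ⟨w, by rw [one_mul, hyw]⟩
  exact hprime.ne_top ((Ideal.eq_top_iff_one P).mpr h1)

end Groth.Agent.Lib.Helper14.RedFib
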