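import Mathlib
import Groth.Agent.Lib.Helper9.AssTensor
import Groth.Agent.Lib.Helper14.RedFib.Nak

/-!
# Reducedness of a flat algebra over a normal domain (helper14)
-/

set_option autoImplicit false
universe u

namespace Groth.Agent.Lib.Helper14.RedFib

open TensorProduct

theorem algebraMap_mem_nonZeroDivisors_of_flat (D B : Type*) [CommRing D] [IsDomain D]
    [CommRing B] [Algebra D B] [Module.Flat D B] (d : D) (hd : d ≠ 0) :
    algebraMap D B d ∈ nonZeroDivisors B := by
  have h1 : IsSMulRegular D d := by
    intro a b hab
    exact mul_left_cancel₀ hd hab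
  have h2 : IsSMulRegular B (algebraMap D B d) := h1.of_flat
  rw [mem_nonZeroDivisors_iff_right]
  intro b hb
  apply h2
  simp only [smul_eq_mul, mul_zero]
  rw [mul_comm]; exact hb

/-- Let `D` be a normal Noetherian domain, `B` a flat Noetherian `D`-algebra, `x ≠ 0` in `D` mapping
into the Jacobson radical of `B`. If `P B` is a radical ideal for every prime `P ∋ x` of `D`,
then `B` is reduced. -/
theorem isReduced_of_flat_of_radical (D B : Type u) [CommRing D] [IsDomain D] [IsNoetherianRing D]
    [IsIntegrallyClosed D] [CommRing B] [IsNoetherianRing B] [Algebra D B] [Module.Flat D B]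
    (x : D) (hx : x ≠ 0) (hJ : algebraMap D B x ∈ Ideal.jacobson (⊥ : Ideal B))
    (hfib : ∀ (P : Ideal D) [P.IsPrime], x ∈ P → (P.map (algebraMap D B)).IsRadical) :
    IsReduced B := by
  refine isReduced_of_nilradical_le_span B (algebraMap D B x) hJ
    (algebraMap_mem_nonZeroDivisors_of_flat D B x hx) ?_
  have hJeq : (Ideal.span {x}).map (algebraMap D B) = Ideal.span {algebraMap D B x} := by
    rw [Ideal.map_span, Set.image_singleton]
  rw [← hJeq]
  intro n hn
  by_contra hnot
  have hne : (Ideal.Quotient.mk ((Ideal.span {x}).map (algebraMap D B)) n) ≠ 0 := by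
    rwa [Ne, Ideal.Quotient.eq_zero_iff_mem]
  obtain ⟨q, hqass, hle⟩ := exists_le_isAssociatedPrime_of_isNoetherianRing (R := B)
    (M := B ⧸ (Ideal.span {x}).map (algebraMap D B)) _ hne
  haveI hqp : q.IsPrime := hqass.isPrime
  have hq' : q ∈ associatedPrimes B (B ⊗[D] (D ⧸ Ideal.span {x})) := by
    rw [← LinearEquiv.AssociatedPrimes.eq
      (Algebra.TensorProduct.quotIdealMapEquivTensorQuot B (Ideal.span {x})).toLinearEquiv]
    exact hqass
  have hP := Groth.Agent.Lib.Helper9.AssTensor.comap_mem_associatedPrimes (R := D) (S := B) B
    (D ⧸ Ideal.span {x}) q hq'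
  haveI hPp : (q.comap (algebraMap D B)).IsPrime := Ideal.comap_isPrime _ _
  obtain ⟨hxP, t, htP, ht0, s, hsP, hst⟩ :=
    exists_principal_of_mem_associatedPrimes D x hx _ hP
  -- the localization at `q` is reduced
  have hred : IsReduced (Localization.AtPrime q) := by
    refine isReduced_of_nilradical_le_span (Localization.AtPrime q)
      (algebraMap B (Localization.AtPrime q) (algebraMap D B t)) ?_ ?_ ?_
    · rw [IsLocalRing.jacobson_eq_maximalIdeal ⊥ bot_ne_top,
        IsLocalization.AtPrime.to_map_mem_maximal_iff (Localization.AtPrime q) q]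
      exact htP
    · exact IsLocalization.map_nonZeroDivisors_le q.primeCompl (Localization.AtPrime q)
        ⟨_, algebraMap_mem_nonZeroDivisors_of_flat D B t ht0, rfl⟩
    · have hrad : (((q.comap (algebraMap D B)).map (algebraMap D B)).map
          (algebraMap B (Localization.AtPrime q))).IsRadical := by
        have h1 := hfib (q.comap (algebraMap D B)) hxP
        unfold Ideal.IsRadical
        rw [← IsLocalization.map_radical q.primeCompl, h1.radical]
      have hle2 : ((q.comap (algebraMap D B)).map (algebraMap D B)).map
          (algebraMap B (Localization.AtPrime q)) ≤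
          Ideal.span {algebraMap B (Localization.AtPrime q) (algebraMap D B t)} := by
        rw [Ideal.map_map, Ideal.map_le_iff_le_comap]
        intro a ha
        rw [Ideal.mem_comap]
        have h2 := hst a ha
        obtain ⟨c, hc⟩ := Ideal.mem_span_singleton'.mp h2
        have hsu : IsUnit (algebraMap B (Localization.AtPrime q) (algebraMap D B s)) := by
          apply IsLocalization.map_units (Localization.AtPrime q)
            (⟨algebraMap D B s, ?_⟩ : q.primeCompl)
          exact hsP
        have h3 : ((algebraMap B (Localization.AtPrime q)).comp (algebraMap D B)) s *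
            ((algebraMap B (Localization.AtPrime q)).comp (algebraMap D B)) a ∈
            Ideal.span {algebraMap B (Localization.AtPrime q) (algebraMap D B t)} := by
          rw [← map_mul, ← hc, map_mul]
          exact Ideal.mul_mem_left _ _ (Ideal.mem_span_singleton_self _)
        exact (Ideal.unit_mul_mem_iff_mem _ hsu).mp h3
      calc nilradical (Localization.AtPrime q)
          ≤ (((q.comap (algebraMap D B)).map (algebraMap D B)).map
            (algebraMap B (Localization.AtPrime q))).radical := Ideal.radical_mono bot_le
        _ = _ := hrad.radical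
        _ ≤ _ := hle2
  -- so `n` dies in the localization
  have hn0 : algebraMap B (Localization.AtPrime q) n = 0 := by
    have : IsNilpotent (algebraMap B (Localization.AtPrime q) n) := by
      obtain ⟨k, hk⟩ := hn
      exact ⟨k, by rw [← map_pow, hk, map_zero]⟩
    exact this.eq_zero
  obtain ⟨u, hu⟩ := (IsLocalization.map_eq_zero_iff q.primeCompl (Localization.AtPrime q) n).mp hn0
  have huq : (u : B) ∈ q := by
    apply hle
    rw [Submodule.mem_colon_singleton, Submodule.mem_bot]
    show (u : B) • (Ideal.Quotient.mk _ n) = 0
    rw [← Ideal.Quotient.mk_eq_mk, ← Submodule.Quotient.mk_smul, smul_eq_mul, hu]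
    rfl
  exact u.2 huq

end Groth.Agent.Lib.Helper14.RedFib
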